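import Groth.Agent.MultHopf.Bridge
import Groth.Agent.MultHopf.ExtField
import Groth.Agent.HopfUnip.Basic
import Groth.Agent.HopfLib.DeligneScheme
import Groth.Agent.NormalQuot.Scheme
import Groth.Agent.S3308
import Groth.Prelude.Def_CGrpSh2
import Mathlib.RingTheory.HopfAlgebra.GroupLike
import Mathlib.RingTheory.Bialgebra.MonoidAlgebra

/-!
# Characters of commutative affine groups extend from closed subgroups
-/

set_option linter.all false

universe u

noncomputable section

open CategoryTheory CategoryTheory.Limits MonoidalCategory CartesianMonoidalCategory MonObj AlgebraicGeometry Opposite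
open scoped TensorProduct

namespace Groth.Agent.CharExt

open Groth.Agent.HopfUnip HopfRep

variable {k : Type u} [Field k] {A B : Type u} [CommRing A] [HopfAlgebra k A] [CommRing B] [HopfAlgebra k B]

theorem exists_groupLike_of_surjective [IsAlgClosed k] [Algebra.FiniteType k A] [Coalgebra.IsCocomm k A]
    (f : A →ₐc[k] B) (hf : Function.Surjective f) (u : B) (hu : IsGroupLikeElem k u) :
    ∃ g : A, IsGroupLikeElem k g ∧ f g = u := by
  letI := Comod.regular k A
  letI := Comod.regular k B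
  have hA : IsWeighted k A {a : A | IsGroupLikeElem k a} :=
    isTrigonalizable_iff_isWeighted.1 (Groth.Agent.S3308.result k A)
  have hB : IsWeighted k B (f '' {a : A | IsGroupLikeElem k a}) :=
    isWeighted_of_surjective f hf (Set.mapsTo_image _ _) hA
  have hS : ∀ g ∈ f '' {a : A | IsGroupLikeElem k a}, IsGroupLikeElem k g := by
    rintro _ ⟨a, ha, rfl⟩
    exact ha.map f
  have hU : IsSubcomod (k := k) (A := B) (k ∙ u) := by
    rw [Groth.Agent.Comod.isSubcomod_iff]
    intro φ v hv
    obtain ⟨c, rfl⟩ := Submodule.mem_span_singleton.1 hv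
    rw [map_smul, Groth.Agent.Comod.actL_apply]
    refine Submodule.smul_mem _ _ ?_
    rw [show Comod.coact (k := k) (A := B) u = u ⊗ₜ[k] u from hu.comul_eq_tmul_self]
    simpa using Submodule.smul_mem _ (φ u) (Submodule.mem_span_singleton_self u)
  have hu0 : u ≠ 0 := hu.ne_zero
  obtain ⟨v, hv, hv0, g, hg, hvg⟩ := exists_eigvec_mem hS hU (by simpa using hu0) (by rw [hB]; exact le_top)
  obtain ⟨c, rfl⟩ := Submodule.mem_span_singleton.1 hv
  have hc : c ≠ 0 := fun h => hv0 (by simp [h])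
  have hug : u ⊗ₜ[k] u = u ⊗ₜ[k] g := by
    have h2 : c • (u ⊗ₜ[k] u) = c • (u ⊗ₜ[k] g) := by
      rw [← hu.comul_eq_tmul_self, TensorProduct.smul_tmul', ← hvg, map_smul]
      rfl
    simpa [smul_smul, hc] using congrArg (fun z => c⁻¹ • z) h2
  have hug' : u = g := by
    have h3 := congrArg (Groth.Agent.Comod.slL (k := k) (Coalgebra.counit (R := k) (A := B))) hug
    simpa [hu.counit_eq_one] using h3
  obtain ⟨a, ha, rfl⟩ := hg
  exact ⟨a, ha, hug'.symm⟩

/-- The bialgebra map out of a group algebra given by a homomorphism to group-like elements. -/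
def liftGroupLike {M : Type u} [CommGroup M] (χ : M →* A) (h : ∀ m, IsGroupLikeElem k (χ m)) :
    MonoidAlgebra k M →ₐc[k] A :=
  BialgHom.ofAlgHom (MonoidAlgebra.lift k A M χ)
    (by ext m; simp [(h m).counit_eq_one])
    (by ext m; simp [(h m).comul_eq_tmul_self])

theorem exists_extension [IsAlgClosed k] [Algebra.FiniteType k A] [Coalgebra.IsCocomm k A]
    (f : A →ₐc[k] B) (hf : Function.Surjective f)
    (ψ : MonoidAlgebra k (ULift.{u} (Multiplicative ℤ)) →ₐc[k] B) :
    ∃ φ : MonoidAlgebra k (ULift.{u} (Multiplicative ℤ)) →ₐc[k] A, f.comp φ = ψ := by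
  let t : ULift.{u} (Multiplicative ℤ) := ULift.up (Multiplicative.ofAdd 1)
  obtain ⟨g, hg, hgu⟩ := exists_groupLike_of_surjective f hf _
    ((MonoidAlgebra.isGroupLikeElem_of (R := k) (A := k) (M := ULift.{u} (Multiplicative ℤ)) t).map ψ)
  let χ : ULift.{u} (Multiplicative ℤ) →* A :=
    (GroupLike.valMonoidHom k A).comp
      ((zpowersHom (GroupLike k A) ⟨g, hg⟩).comp (MulEquiv.ulift : ULift.{u} (Multiplicative ℤ) ≃* Multiplicative ℤ).toMonoidHom)
  have hχ : ∀ m, IsGroupLikeElem k (χ m) := fun m => (zpowersHom (GroupLike k A) ⟨g, hg⟩ m.down).2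
  refine ⟨liftGroupLike χ hχ, ?_⟩
  have e : (f.comp (liftGroupLike χ hχ) : MonoidAlgebra k (ULift.{u} (Multiplicative ℤ)) →ₐ[k] B) = ψ := by
    have hk : ((f : A →ₐ[k] B) : A →* B).comp χ =
        ((ψ : MonoidAlgebra k (ULift.{u} (Multiplicative ℤ)) →ₐ[k] B) : MonoidAlgebra k _ →* B).comp
          (MonoidAlgebra.of k _) := by
      have key : (((f : A →ₐ[k] B) : A →* B).comp χ).comp (MulEquiv.ulift : ULift.{u} (Multiplicative ℤ) ≃* Multiplicative ℤ).symm.toMonoidHom =
          (((ψ : MonoidAlgebra k (ULift.{u} (Multiplicative ℤ)) →ₐ[k] B) : MonoidAlgebra k _ →* B).comp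
            (MonoidAlgebra.of k _)).comp (MulEquiv.ulift : ULift.{u} (Multiplicative ℤ) ≃* Multiplicative ℤ).symm.toMonoidHom := by
        refine MonoidHom.ext_mint ?_
        simp [χ]
        exact hgu
      ext m
      exact DFunLike.congr_fun key m.down
    refine AlgHom.ext fun x => ?_
    induction x using MonoidAlgebra.induction_on with
    | of m =>
      have := DFunLike.congr_fun hk m
      simpa [liftGroupLike] using this
    | add x y hx hy => rw [map_add, map_add, hx, hy]
    | smul r x hx => rw [map_smul, map_smul, hx]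
  exact DFunLike.ext _ _ fun x => DFunLike.congr_fun e x

theorem exists_character_extension [IsAlgClosed k]
    (H G : Over (Spec (CommRingCat.of k))) [GrpObj H] [GrpObj G] [IsCommMonObj G]
    [IsAffine H.left] [IsAffine G.left] [LocallyOfFiniteType G.hom]
    (i : H ⟶ G) [IsMonHom i] [IsClosedImmersion i.left]
    (h : H ⟶ Red.Gm (Spec (CommRingCat.of k))) [IsMonHom h] :
    ∃ (g : G ⟶ Red.Gm (Spec (CommRingCat.of k))) (_ : IsMonHom g), i ≫ g = h := by
  haveI : IsAffineHom H.hom := isAffineHom_of_isAffine _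
  haveI : IsAffineHom G.hom := isAffineHom_of_isAffine _
  obtain ⟨A, _, _, ⟨eA⟩⟩ := MultHopf.exists_hopf k G
  obtain ⟨B, _, _, ⟨eB⟩⟩ := MultHopf.exists_hopf k H
  haveI := MultHopf.finiteType_of_iso eA
  haveI : Coalgebra.IsCocomm k A := by
    apply Groth.Agent.HopfLib.isCocomm_of_points_comm
    intro a b
    apply (Spec.mapMulEquiv (R := k) (S := A) (T := A ⊗[k] A)).injective
    rw [map_mul, map_mul]
    have hm : IsMonHom eA.inv.hom.hom := eA.inv.hom.isMonHom_hom
    haveI : Mono eA.inv.hom.hom := SplitMono.mono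
      ⟨eA.hom.hom.hom, congrArg (fun z => z.hom.hom) eA.inv_hom_id⟩
    rw [← cancel_mono eA.inv.hom.hom, MonObj.mul_comp, MonObj.mul_comp, mul_comm]
  let eC := MultHopf.bcDiag (ULift.{u} ℤ) k (Limits.IsTerminal.from specULiftZIsTerminal _) ℤ
  haveI : IsMonHom eC.hom.hom.hom := eC.hom.hom.isMonHom_hom
  obtain ⟨π, hπ⟩ := MultHopf.exists_bialgHom (eB.inv ≫ (Grp.homMk'' i : Grp.mk H ⟶ Grp.mk G) ≫ eA.hom)
  obtain ⟨ψ, hψ⟩ := MultHopf.exists_bialgHom (eB.inv ≫ (Grp.homMk'' h : Grp.mk H ⟶ Grp.mk (Red.Gm (Spec (CommRingCat.of k)))) ≫ eC.hom)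
  have hπs : Function.Surjective π := by
    have hπ' : (MultHopf.hspecHom π).hom.hom = eB.inv.hom.hom ≫ i ≫ eA.hom.hom.hom := by rw [hπ]; rfl
    haveI : IsClosedImmersion (NormalQuot.specHom π).left := by
      have : IsClosedImmersion (eB.inv.hom.hom ≫ i ≫ eA.hom.hom.hom).left := by
        haveI : IsIso eB.inv.hom.hom := ⟨eB.hom.hom.hom, congrArg (fun z => z.hom.hom) eB.inv_hom_id,
          congrArg (fun z => z.hom.hom) eB.hom_inv_id⟩
        haveI : IsIso eA.hom.hom.hom := ⟨eA.inv.hom.hom, congrArg (fun z => z.hom.hom) eA.hom_inv_id,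
          congrArg (fun z => z.hom.hom) eA.inv_hom_id⟩
        exact MultHopf.left_property_comp₃ @IsClosedImmersion _ i _ ‹IsClosedImmersion i.left›
      rw [← hπ'] at this
      exact this
    exact NormalQuot.surjective_of_isClosedImmersion π
  obtain ⟨φ, hφ⟩ := exists_extension π hπs ψ
  refine ⟨(eA.hom ≫ MultHopf.hspecHom φ ≫ eC.inv).hom.hom, (eA.hom ≫ MultHopf.hspecHom φ ≫ eC.inv).hom.isMonHom_hom, ?_⟩
  have key : (Grp.homMk'' i : Grp.mk H ⟶ Grp.mk G) ≫ eA.hom ≫ MultHopf.hspecHom φ ≫ eC.inv = (Grp.homMk'' h : Grp.mk H ⟶ Grp.mk (Red.Gm (Spec (CommRingCat.of k)))) := by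
    have h1 : MultHopf.hspecHom π ≫ MultHopf.hspecHom φ = MultHopf.hspecHom ψ := by
      rw [← hφ]
      apply Grp.hom_ext
      apply Over.OverMorphism.ext
      exact (Spec.map_comp _ _).symm
    rw [hπ, hψ] at h1
    simp only [Category.assoc, cancel_epi] at h1
    simp only [← Category.assoc]
    rw [Iso.comp_inv_eq]
    simp only [Category.assoc]
    exact h1
  exact congrArg (fun z => z.hom.hom) key

end Groth.Agent.CharExt
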